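import Cfsg.Agent.H132.S5.Main
import Cfsg.Agent.H513.MeetPSp
import Cfsg.Agent.LieClassical.FieldTransfer
import Cfsg.Agent.S0244
import Cfsg.Agent.S0245
import Cfsg.Agent.S0246
import Cfsg.Agent.S0270

/-!
# S2274-O2 (helper3): the strong row of `PSp_2m(q)` in own characteristic `p ≥ 5`

* `spair_of_factor` : pairs through a section of a quotient;
* `St k F`, `res` : the stabiliser of the line of the first basis vector `e1` in the semisimilitude group and its
  action on `e1^⊥ / e1`, a symplectic space of dimension `2k`;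
* `exists_fixed` : a semisimilitude `n ≠ 1`, `n ^ p = 1`, has a fixed vector `v` such that `n` acts nontrivially on
  `v^⊥ / v`;
* `srow_succ` : `SRow p (PSp k F) → SRow p (PSp (k + 1) F)`;
* `srow_psp` : the row.
-/

set_option autoImplicit false

universe u

namespace Cfsg.Agent.H3.S5.PSpOwn

open Cfsg Subgroup Cfsg.Agent.H132.S5 Cfsg.Agent.H533.T5
open Cfsg.Agent.ClassicalGeometry.SympBasic Cfsg.Agent.ClassicalGeometry.SympAutSemi
open Cfsg.Agent.ClassicalGeometry.SympGamma

/-! ### sections of quotients -/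

/-- Pairs through a section of a quotient: `ψ : A → B`, `χ : A → C` with `ker ψ ≤ ker χ`. -/
theorem spair_of_factor {p : ℕ} (hp : p.Prime) {A B C : Type*} [Group A] [Group B] [Group C]
    (ψ : A →* B) (χ : A →* C) (hker : ∀ a, ψ a = 1 → χ a = 1) {S : Subgroup B} {T : Subgroup C}
    (hT : T ≤ (S.comap ψ).map χ) {y z : A} (h : SPair p T (χ y) (χ z)) : SPair p S (ψ y) (ψ z) := by
  let f : A →* ψ.range := ψ.rangeRestrict
  have hf : Function.Surjective f := ψ.rangeRestrict_surjective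
  have hk : f.ker ≤ χ.ker := by
    intro a ha
    rw [MonoidHom.mem_ker] at ha ⊢
    exact hker a (congrArg Subtype.val ha)
  let χ' : ψ.range →* C := f.liftOfSurjective hf ⟨χ, hk⟩
  have hχ' : ∀ a, χ' (f a) = χ a := fun a => MonoidHom.liftOfRightInverse_comp_apply f _ _ ⟨χ, hk⟩ a
  have h1 : SPair p S ((f y : ψ.range) : B) ((f z : ψ.range) : B) := by
    refine SPair.of_section hp χ' (T := T) ?_ (by rw [hχ', hχ']; exact h)
    intro t ht
    obtain ⟨a, ha, rfl⟩ := hT ht
    exact ⟨f a, ha, hχ' a⟩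
  exact h1

/-! ### the stabiliser of a line and its action on `e^⊥ / e` -/

abbrev VV (m : ℕ) (F : Type*) : Type _ := Fin m ⊕ Fin m → F

section res

variable {F : Type*} [Field F] {k : ℕ}

/-- the first basis vector -/
def e1 (k : ℕ) (F : Type*) [Field F] : VV (k + 1) F := Pi.single (Sum.inl 0) 1

theorem e1_ne : e1 k F ≠ 0 := by
  intro h
  have := congrFun h (Sum.inl 0)
  simp [e1] at this

/-- `e1` -/
theorem e1_inl : e1 k F (Sum.inl 0) = 1 := by simp [e1]

theorem e1_inr : e1 k F (Sum.inr 0) = 0 := by simp [e1]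

/-- the embedding of the space of dimension `2k` -/
def emb (w : VV k F) : VV (k + 1) F :=
  Sum.elim (Fin.cons 0 fun i => w (Sum.inl i)) (Fin.cons 0 fun i => w (Sum.inr i))

/-- the projection -/
def prj (v : VV (k + 1) F) : VV k F :=
  Sum.elim (fun i => v (Sum.inl i.succ)) (fun i => v (Sum.inr i.succ))

omit [Field F] in
theorem vec_ext {u v : VV (k + 1) F} (h1 : u (Sum.inl 0) = v (Sum.inl 0)) (h2 : u (Sum.inr 0) = v (Sum.inr 0))
    (h3 : prj u = prj v) : u = v := by
  funext i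
  rcases i with i | i
  · induction i using Fin.cases with
    | zero => exact h1
    | succ i => exact congrFun h3 (Sum.inl i)
  · induction i using Fin.cases with
    | zero => exact h2
    | succ i => exact congrFun h3 (Sum.inr i)

theorem prj_emb (w : VV k F) : prj (emb w) = w := by
  funext i
  rcases i with i | i <;> rfl

theorem emb_inl (w : VV k F) : emb w (Sum.inl 0) = 0 := rfl

theorem emb_inr (w : VV k F) : emb w (Sum.inr 0) = 0 := rfl

theorem prj_add (u v : VV (k + 1) F) : prj (u + v) = prj u + prj v := by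
  funext i
  rcases i with i | i <;> rfl

theorem prj_smul (a : F) (v : VV (k + 1) F) : prj (a • v) = a • prj v := by
  funext i
  rcases i with i | i <;> rfl

theorem prj_e1 : prj (e1 k F) = 0 := by
  funext i
  rcases i with i | i
  · change (Pi.single (Sum.inl 0) 1 : VV (k + 1) F) (Sum.inl i.succ) = 0
    rw [Pi.single_eq_of_ne]
    intro h
    exact Fin.succ_ne_zero i (Sum.inl_injective h)
  · change (Pi.single (Sum.inl 0) 1 : VV (k + 1) F) (Sum.inr i.succ) = 0
    rw [Pi.single_eq_of_ne]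
    exact Sum.inr_ne_inl

theorem emb_add (u v : VV k F) : emb (u + v) = emb u + emb v := by
  refine vec_ext ?_ ?_ ?_
  · rw [Pi.add_apply, emb_inl, emb_inl, emb_inl, add_zero]
  · rw [Pi.add_apply, emb_inr, emb_inr, emb_inr, add_zero]
  · rw [prj_add, prj_emb, prj_emb, prj_emb]

theorem emb_smul (a : F) (v : VV k F) : emb (a • v) = a • emb v := by
  refine vec_ext ?_ ?_ ?_
  · rw [Pi.smul_apply, emb_inl, emb_inl, smul_zero]
  · rw [Pi.smul_apply, emb_inr, emb_inr, smul_zero]
  · rw [prj_smul, prj_emb, prj_emb]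

theorem form_eq (u v : VV (k + 1) F) : sympForm (k + 1) F u v =
    (u (Sum.inr 0) * v (Sum.inl 0) - u (Sum.inl 0) * v (Sum.inr 0)) + sympForm k F (prj u) (prj v) := by
  rw [sympForm_eq_sum, sympForm_eq_sum, Fin.sum_univ_succ]
  rfl

theorem form_e1 (v : VV (k + 1) F) : sympForm (k + 1) F v (e1 k F) = v (Sum.inr 0) :=
  sympForm_single_inl_right 0 v

theorem form_perp {u v : VV (k + 1) F} (hu : u (Sum.inr 0) = 0) (hv : v (Sum.inr 0) = 0) :
    sympForm (k + 1) F u v = sympForm k F (prj u) (prj v) := by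
  rw [form_eq, hu, hv, zero_mul, mul_zero, sub_zero, zero_add]

theorem decomp {v : VV (k + 1) F} (hv : v (Sum.inr 0) = 0) : v = emb (prj v) + v (Sum.inl 0) • e1 k F := by
  refine vec_ext ?_ ?_ ?_
  · rw [Pi.add_apply, emb_inl, Pi.smul_apply, e1_inl, smul_eq_mul, mul_one, zero_add]
  · rw [Pi.add_apply, emb_inr, Pi.smul_apply, e1_inr, smul_zero, add_zero, hv]
  · rw [prj_add, prj_emb, prj_smul, prj_e1, smul_zero, add_zero]

/-- The stabiliser of the line of `e1`. -/
def St (k : ℕ) (F : Type*) [Field F] : Subgroup (semiSim (k + 1) F) where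
  carrier := {y | ∃ a : F, a ≠ 0 ∧ y.1 (e1 k F) = a • e1 k F}
  mul_mem' := by
    rintro ⟨y, φ, l, hl, hy⟩ ⟨z, ψ, l', hl', hz⟩ ⟨a, ha0, ha⟩ ⟨b, hb0, hb⟩
    refine ⟨φ b * a, mul_ne_zero ((map_ne_zero φ).2 hb0) ha0, ?_⟩
    change y (z (e1 k F)) = _
    change z (e1 k F) = _ at hb
    change y (e1 k F) = _ at ha
    rw [hb, hy.2.1, ha, smul_smul]
  one_mem' := ⟨1, one_ne_zero, (one_smul _ _).symm⟩
  inv_mem' := by
    rintro ⟨y, φ, l, hl, hy⟩ ⟨a, ha0, ha⟩
    have h1 := hy.inv hl
    refine ⟨φ.symm a⁻¹, (map_ne_zero φ.symm).2 (inv_ne_zero ha0), ?_⟩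
    change y (e1 k F) = _ at ha
    change y⁻¹ (e1 k F) = _
    have h2 : e1 k F = a⁻¹ • y (e1 k F) := by rw [ha, smul_smul, inv_mul_cancel₀ ha0, one_smul]
    conv_lhs => rw [h2]
    rw [h1.2.1, perm_inv_apply_self]

theorem mem_St {y : semiSim (k + 1) F} : y ∈ St k F ↔ ∃ a : F, a ≠ 0 ∧ y.1 (e1 k F) = a • e1 k F := Iff.rfl

theorem perp_map (y : St k F) {v : VV (k + 1) F} (hv : v (Sum.inr 0) = 0) :
    (y.1.1 v) (Sum.inr 0) = 0 := by
  obtain ⟨⟨y, φ, l, hl, hy⟩, a, ha0, ha⟩ := y
  change y (e1 k F) = _ at ha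
  change (y v) (Sum.inr 0) = 0
  have h1 := hy.2.2 v (e1 k F)
  rw [ha, sympForm_smul_right, form_e1, form_e1, hv, map_zero, mul_zero] at h1
  exact (mul_eq_zero.1 h1).resolve_left ha0

theorem prj_map (y : St k F) {v : VV (k + 1) F} (hv : v (Sum.inr 0) = 0) :
    prj (y.1.1 v) = prj (y.1.1 (emb (prj v))) := by
  obtain ⟨⟨y, φ, l, hl, hy⟩, a, ha0, ha⟩ := y
  change y (e1 k F) = _ at ha
  change prj (y v) = prj (y (emb (prj v)))
  conv_lhs => rw [decomp hv]
  rw [hy.1, hy.2.1, ha, prj_add, prj_smul, prj_smul, prj_e1, smul_zero, smul_zero, add_zero]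

/-- The action on `e1^⊥ / e1`. -/
def resPerm (y : St k F) : Equiv.Perm (VV k F) where
  toFun w := prj (y.1.1 (emb w))
  invFun w := prj ((y⁻¹).1.1 (emb w))
  left_inv w := by
    dsimp only
    rw [← prj_map y⁻¹ (perp_map y (emb_inr w))]
    change prj (y.1.1⁻¹ (y.1.1 (emb w))) = w
    rw [perm_inv_apply_self, prj_emb]
  right_inv w := by
    dsimp only
    rw [← prj_map y (perp_map y⁻¹ (emb_inr w))]
    change prj (y.1.1 (y.1.1⁻¹ (emb w))) = w
    rw [perm_apply_inv_self, prj_emb]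

theorem resPerm_apply (y : St k F) (w : VV k F) : resPerm y w = prj (y.1.1 (emb w)) := rfl

theorem resPerm_prj (y : St k F) {v : VV (k + 1) F} (hv : v (Sum.inr 0) = 0) :
    resPerm y (prj v) = prj (y.1.1 v) := by
  rw [resPerm_apply, ← prj_map y hv]

theorem isSemi_resPerm (y : St k F) {φ : F ≃+* F} {l : F} (hy : IsSemi y.1.1 φ l) : IsSemi (resPerm y) φ l := by
  refine ⟨fun u v => ?_, fun a v => ?_, fun u v => ?_⟩
  · rw [resPerm_apply, resPerm_apply, resPerm_apply, emb_add, hy.1, prj_add]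
  · rw [resPerm_apply, resPerm_apply, emb_smul, hy.2.1, prj_smul]
  · rw [resPerm_apply, resPerm_apply, ← form_perp (perp_map y (emb_inr u)) (perp_map y (emb_inr v)), hy.2.2,
      form_perp (emb_inr u) (emb_inr v), prj_emb, prj_emb]

/-- The action on `e1^⊥ / e1`. -/
def res (k : ℕ) (F : Type*) [Field F] : St k F →* semiSim k F where
  toFun y := ⟨resPerm y, by
    obtain ⟨φ, l, hl, hy⟩ := y.1.2
    exact ⟨φ, l, hl, isSemi_resPerm y hy⟩⟩
  map_one' := by
    apply Subtype.ext
    ext1 w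
    exact prj_emb w
  map_mul' y z := by
    apply Subtype.ext
    ext1 w
    change prj (y.1.1 (z.1.1 (emb w))) = resPerm y (prj (z.1.1 (emb w)))
    rw [resPerm_prj y (perp_map z (emb_inr w))]

theorem res_coe (y : St k F) : (res k F y : Equiv.Perm (VV k F)) = resPerm y := rfl

/-- symplectic maps fixing `e1` and `f1` -/
theorem exists_ext (A : Matrix.symplecticGroup (Fin k) F) :
    ∃ B : Matrix.symplecticGroup (Fin (k + 1)) F, rho (k + 1) F B (e1 k F) = e1 k F ∧
      ∀ v, v (Sum.inr 0) = 0 → prj (rho (k + 1) F B v) = rho k F A (prj v) := by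
  obtain ⟨ext, hext⟩ : ∃ ext : (VV k F → VV k F) → VV (k + 1) F → VV (k + 1) F, ∀ g v,
      ext g v (Sum.inl 0) = v (Sum.inl 0) ∧ ext g v (Sum.inr 0) = v (Sum.inr 0) ∧ prj (ext g v) = g (prj v) := by
    refine ⟨fun g v => Sum.elim (Fin.cons (v (Sum.inl 0)) fun i => g (prj v) (Sum.inl i))
      (Fin.cons (v (Sum.inr 0)) fun i => g (prj v) (Sum.inr i)), fun g v => ⟨rfl, rfl, ?_⟩⟩
    funext i
    rcases i with i | i <;> rfl
  let h : Equiv.Perm (VV (k + 1) F) :=
    { toFun := ext (rho k F A)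
      invFun := ext ((rho k F A)⁻¹ : Equiv.Perm (VV k F))
      left_inv := fun v => by
        refine vec_ext ?_ ?_ ?_
        · rw [(hext _ _).1, (hext _ _).1]
        · rw [(hext _ _).2.1, (hext _ _).2.1]
        · rw [(hext _ _).2.2, (hext _ _).2.2, perm_inv_apply_self]
      right_inv := fun v => by
        refine vec_ext ?_ ?_ ?_
        · rw [(hext _ _).1, (hext _ _).1]
        · rw [(hext _ _).2.1, (hext _ _).2.1]
        · rw [(hext _ _).2.2, (hext _ _).2.2, perm_apply_inv_self] }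
  have hh : ∀ v, h v = ext (rho k F A) v := fun v => rfl
  have hA := isSemi_rho A
  obtain ⟨B, hB⟩ := exists_rho_eq h (by
    intro u v
    rw [hh, hh, hh]
    refine vec_ext ?_ ?_ ?_
    · rw [(hext _ _).1, Pi.add_apply, Pi.add_apply, (hext _ _).1, (hext _ _).1]
    · rw [(hext _ _).2.1, Pi.add_apply, Pi.add_apply, (hext _ _).2.1, (hext _ _).2.1]
    · rw [(hext _ _).2.2, prj_add, prj_add, (hext _ _).2.2, (hext _ _).2.2, hA.1]) (by
    intro a v
    rw [hh, hh]
    refine vec_ext ?_ ?_ ?_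
    · rw [(hext _ _).1, Pi.smul_apply, Pi.smul_apply, (hext _ _).1]
    · rw [(hext _ _).2.1, Pi.smul_apply, Pi.smul_apply, (hext _ _).2.1]
    · rw [(hext _ _).2.2, prj_smul, prj_smul, (hext _ _).2.2, hA.2.1]
      rfl) (by
    intro u v
    rw [hh, hh, form_eq, form_eq u v, (hext _ _).1, (hext _ _).1, (hext _ _).2.1, (hext _ _).2.1, (hext _ _).2.2,
      (hext _ _).2.2, sympForm_rho])
  refine ⟨B, ?_, fun v _ => ?_⟩
  · rw [hB, hh]
    refine vec_ext ?_ ?_ ?_
    · rw [(hext _ _).1]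
    · rw [(hext _ _).2.1]
    · rw [(hext _ _).2.2, prj_e1, rho_apply, Matrix.mulVec_zero]
  · rw [hB, hh, (hext _ _).2.2]

/-- the symplectic maps induce inner automorphisms -/
theorem Psi_rho {m : ℕ} (A : Matrix.symplecticGroup (Fin m) F) (h : rho m F A ∈ semiSim m F) :
    Psi m F ⟨rho m F A, h⟩ = MulAut.conj (QuotientGroup.mk A : PSp m F) := by
  ext x
  induction x using QuotientGroup.induction_on with
  | H B =>
    rw [Psi_mk, MulAut.conj_apply]
    have h1 : conjHom m F ⟨rho m F A, h⟩ B = A * B * A⁻¹ := by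
      apply rho_injective
      rw [rho_conjHom, map_mul, map_mul, map_inv]
    rw [h1]
    rfl

theorem rho_mem {m : ℕ} (A : Matrix.symplecticGroup (Fin m) F) : rho m F A ∈ semiSim m F :=
  ⟨_, _, one_ne_zero, isSemi_rho A⟩

end res

/-! ### fixed vectors -/

section fixed

variable {F : Type*} [Field F]

/-- a fixed vector -/
theorem exists_fix [Finite F] {p : ℕ} [Fact p.Prime] [CharP F p] {m : ℕ} (hm : 1 ≤ m)
    {n : Equiv.Perm (VV m F)} (h0 : n 0 = 0) (hnp : n ^ p = 1) : ∃ v, v ≠ 0 ∧ n v = v := by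
  have hG : IsPGroup p (zpowers n) := by
    have h1 : orderOf n ∣ p := orderOf_dvd_of_pow_eq_one hnp
    rcases (Nat.dvd_prime Fact.out).1 h1 with h2 | h2
    · exact IsPGroup.of_card (n := 0) (by rw [Nat.card_zpowers, h2, pow_zero])
    · exact IsPGroup.of_card (n := 1) (by rw [Nat.card_zpowers, h2, pow_one])
  have hcard : p ∣ Nat.card (VV m F) := by
    have := Fintype.ofFinite F
    have h1 : p ∣ Nat.card F := by
      rw [Nat.card_eq_fintype_card]
      exact (CharP.cast_eq_zero_iff F p _).1 (FiniteField.cast_card_eq_zero F)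
    rw [Nat.card_fun, Nat.card_sum, Nat.card_fin]
    exact dvd_pow h1 (by omega)
  have hmem : (0 : VV m F) ∈ MulAction.fixedPoints (zpowers n) (VV m F) := by
    rintro ⟨g, j, rfl⟩
    change (n ^ j) 0 = 0
    exact Function.IsFixedPt.perm_zpow h0 j
  obtain ⟨b, hb, hb0⟩ := hG.exists_fixed_point_of_prime_dvd_card_of_fixed_point _ hcard hmem
  exact ⟨b, hb0.symm, hb ⟨n, mem_zpowers n⟩⟩

theorem map_zero_of {m : ℕ} {n : Equiv.Perm (VV m F)} {σ : F ≃+* F} {l : F} (hn : IsSemi n σ l) : n 0 = 0 := by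
  have := hn.1 0 0
  rw [add_zero] at this
  exact left_eq_add.1 this

/-- a vector with nonzero value -/
theorem exists_value {m p : ℕ} (hp : Odd p) {n : Equiv.Perm (VV m F)} (hn : IsSemi n (1 : F ≃+* F) 1)
    (hnp : n ^ p = 1) (h1 : n ≠ 1) : ∃ e, sympForm m F e (n e) ≠ 0 := by
  by_contra hcon
  push Not at hcon
  apply h1
  ext1 f
  change n f = f
  have h3 : ∀ e, sympForm m F (n e) (n (n f) - f) = 0 := by
    intro e
    have h4 := hcon (e + f)
    rw [hn.1, sympForm_add_left, sympForm_add_right, sympForm_add_right, hcon, hcon] at h4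
    have h5 := hn.2.2 e (n f)
    rw [one_mul] at h5
    change _ = sympForm m F e (n f) at h5
    rw [sympForm_sub_right, h5, sympForm_swap (n e) f]
    linear_combination h4
  have h5 : n (n f) = f := by
    rw [← sub_eq_zero]
    refine eq_zero_of_forall_sympForm_left fun e => ?_
    have := h3 (n.symm e)
    rwa [Equiv.apply_symm_apply] at this
  obtain ⟨j, rfl⟩ := hp
  have h6 : ∀ j : ℕ, (n ^ (2 * j)) f = f := by
    intro j
    induction j with
    | zero => rfl
    | succ j ih =>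
      rw [show 2 * (j + 1) = 2 * j + 1 + 1 by ring, pow_succ, pow_succ, Equiv.Perm.mul_apply,
        Equiv.Perm.mul_apply, h5, ih]
  have h2 : (n ^ (2 * j + 1)) f = f := by rw [hnp]; rfl
  rw [pow_succ', Equiv.Perm.mul_apply, h6] at h2
  exact h2

/-- two vectors orthogonal to `v`, not orthogonal to each other -/
theorem exists_two {m : ℕ} (hm : 2 ≤ m) {v : VV m F} (hv : v ≠ 0) :
    ∃ x y, sympForm m F x v = 0 ∧ sympForm m F y v = 0 ∧ sympForm m F x y ≠ 0 := by
  have h01 : (⟨0, by omega⟩ : Fin m) ≠ ⟨1, by omega⟩ := by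
    intro h
    have := congrArg Fin.val h
    simp at this
  have hne : (Pi.single (Sum.inl (⟨0, by omega⟩ : Fin m)) 1 : VV m F) ≠ 0 := by
    intro h
    have := congrFun h (Sum.inl ⟨0, by omega⟩)
    simp at this
  obtain ⟨A, -, hA⟩ := exists_transvGroup_mulVec_eq hne hv
  have hA' : rho m F A (Pi.single (Sum.inl (⟨0, by omega⟩ : Fin m)) 1) = v := hA
  refine ⟨rho m F A (Pi.single (Sum.inl ⟨1, by omega⟩) 1), rho m F A (Pi.single (Sum.inr ⟨1, by omega⟩) 1), ?_, ?_, ?_⟩
  · rw [← hA', sympForm_rho, sympForm_single_inl_right, Pi.single_eq_of_ne]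
    exact Sum.inr_ne_inl
  · rw [← hA', sympForm_rho, sympForm_single_inl_right, Pi.single_eq_of_ne]
    exact fun h => h01 (Sum.inr_injective h)
  · rw [sympForm_rho, sympForm_single_inr_right, Pi.single_eq_same]
    exact neg_ne_zero.2 one_ne_zero

/-- **The fixed vector.** -/
theorem exists_fixed [Finite F] {p : ℕ} [Fact p.Prime] [CharP F p] (hp2 : p ≠ 2) {m : ℕ} (hm : 2 ≤ m)
    {n : Equiv.Perm (VV m F)} {σ : F ≃+* F} {l : F} (hn : IsSemi n σ l) (hl : σ = 1 → l = 1) (hnp : n ^ p = 1)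
    (h1 : n ≠ 1) : ∃ v, v ≠ 0 ∧ n v = v ∧ ∃ x, sympForm m F x v = 0 ∧ ∀ b : F, n x ≠ x + b • v := by
  have hodd : Odd p := (Fact.out : p.Prime).odd_of_ne_two hp2
  obtain ⟨v, hv0, hv⟩ := exists_fix (by omega : 1 ≤ m) (map_zero_of hn) hnp
  obtain ⟨x, y, hx, hy, hxy⟩ := exists_two hm hv0
  have hxv : ∀ c : F, x ≠ c • v := by
    rintro c rfl
    apply hxy
    rw [sympForm_smul_left, sympForm_swap, hy, neg_zero, mul_zero]
  by_cases hσ : σ = 1
  · subst hσ
    obtain rfl : l = 1 := hl rfl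
    by_cases hline : ∀ u, n u = u → ∃ c : F, u = c • v
    · refine ⟨v, hv0, hv, ?_⟩
      by_contra hcon
      push Not at hcon
      obtain ⟨a, ha⟩ := hcon x hx
      obtain ⟨b, hb⟩ := hcon y hy
      have ha0 : a ≠ 0 := by
        rintro rfl
        rw [zero_smul, add_zero] at ha
        obtain ⟨c, hc⟩ := hline x ha
        exact hxv c hc
      have hz : n (b • x + (-a) • y) = b • x + (-a) • y := by
        rw [hn.1, hn.2.1, hn.2.1, ha, hb]
        change b • (x + a • v) + (-a) • (y + b • v) = _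
        module
      obtain ⟨c, hc⟩ := hline _ hz
      have h2 : sympForm m F x (b • x + (-a) • y) = sympForm m F x (c • v) := by rw [hc]
      rw [sympForm_add_right, sympForm_smul_right, sympForm_smul_right, sympForm_smul_right, sympForm_self, hx,
        mul_zero, mul_zero, zero_add] at h2
      rcases mul_eq_zero.1 h2 with h3 | h3
      · exact ha0 (neg_eq_zero.1 h3)
      · exact hxy h3
    · push Not at hline
      obtain ⟨u, hu, huv⟩ := hline
      obtain ⟨e, he⟩ := exists_value hodd hn hnp h1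
      obtain ⟨w, hw0, hw, hew⟩ : ∃ w, w ≠ 0 ∧ n w = w ∧ sympForm m F e w = 0 := by
        by_cases h2 : sympForm m F e v = 0
        · exact ⟨v, hv0, hv, h2⟩
        · refine ⟨sympForm m F e v • u + (-sympForm m F e u) • v, ?_, ?_, ?_⟩
          · intro h3
            apply huv ((sympForm m F e v)⁻¹ * sympForm m F e u)
            have h4 : sympForm m F e v • u = sympForm m F e u • v := by
              rw [neg_smul, ← sub_eq_add_neg, sub_eq_zero] at h3
              exact h3
            rw [mul_smul, ← h4, smul_smul, inv_mul_cancel₀ h2, one_smul]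
          · rw [hn.1, hn.2.1, hn.2.1, hu, hv]
            rfl
          · rw [sympForm_add_right, sympForm_smul_right, sympForm_smul_right]
            ring
      refine ⟨w, hw0, hw, e, hew, fun b hb => he ?_⟩
      rw [hb, sympForm_add_right, sympForm_self, sympForm_smul_right, hew, mul_zero, add_zero]
  · refine ⟨v, hv0, hv, ?_⟩
    by_contra hcon
    push Not at hcon
    obtain ⟨t, ht⟩ : ∃ t : F, σ t ≠ t := by
      by_contra h3
      push Not at h3
      exact hσ (RingEquiv.ext h3)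
    obtain ⟨a, ha⟩ := hcon x hx
    obtain ⟨b, hb⟩ := hcon (t • x) (by rw [sympForm_smul_left, hx, mul_zero])
    rw [hn.2.1, ha] at hb
    apply hxv ((σ t - t)⁻¹ * (b - σ t * a))
    have h3 : (σ t - t) • x = (b - σ t * a) • v := by
      have h4 : σ t • x + (σ t * a) • v = t • x + b • v := by
        rw [← hb, smul_add, smul_smul]
      rw [sub_smul, sub_smul, sub_eq_sub_iff_add_eq_add, h4, add_comm]
    rw [mul_smul, ← h3, smul_smul, inv_mul_cancel₀ (sub_ne_zero.2 ht), one_smul]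

end fixed

/-! ### the row -/

section row

variable {F : Type} [Field F] [Fintype F]

/-- `Sp_2 = SL_2` -/
def spTwo (F : Type) [Field F] :
    Matrix.symplecticGroup (Fin 1) F ≃* Matrix.SpecialLinearGroup (Fin 2) F where
  toFun A := ⟨Matrix.reindex finSumFinEquiv finSumFinEquiv (A : Matrix (Fin 1 ⊕ Fin 1) (Fin 1 ⊕ Fin 1) F), by
    rw [Matrix.det_reindex_self]
    exact (S0244.result _).1 A.2⟩
  invFun A := ⟨Matrix.reindex finSumFinEquiv.symm finSumFinEquiv.symm (A : Matrix (Fin 2) (Fin 2) F), by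
    rw [S0244.result, Matrix.det_reindex_self]
    exact A.2⟩
  left_inv A := by
    apply Subtype.ext
    ext i j
    simp
  right_inv A := by
    apply Subtype.ext
    ext i j
    simp
  map_mul' A B := by
    apply Subtype.ext
    change Matrix.reindex finSumFinEquiv finSumFinEquiv (A.1 * B.1) =
      Matrix.reindex finSumFinEquiv finSumFinEquiv A.1 * Matrix.reindex finSumFinEquiv finSumFinEquiv B.1
    rw [Matrix.reindex_apply, Matrix.reindex_apply, Matrix.reindex_apply, Matrix.submatrix_mul_equiv]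

/-- `PSp_2 = PSL_2` -/
def pspOne (F : Type) [Field F] : PSp 1 F ≃* Matrix.ProjectiveSpecialLinearGroup (Fin 2) F :=
  LieClassical.FieldTransfer.centralQuotientCongr (spTwo F)

theorem card_eq {m : ℕ} (hm : 1 ≤ m) : Nat.gcd 2 (Fintype.card F - 1) * Nat.card (PSp m F) =
    Fintype.card F ^ (m ^ 2) * ∏ i ∈ Finset.range m, (Fintype.card F ^ (2 * (i + 1)) - 1) := by
  have h1 := S0245.result (F := F) rfl m
  have h2 := S0246.result (F := F) rfl m hm
  have h3 := Subgroup.card_mul_index (Subgroup.center ↥(Matrix.symplecticGroup (Fin m) F))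
  rw [h1, h2] at h3
  exact h3

theorem finite_psp (m : ℕ) : Finite (PSp m F) := by
  unfold Cfsg.PSp
  infer_instance

theorem card_lt {k : ℕ} (hk : 1 ≤ k) : Nat.card (PSp k F) < Nat.card (PSp (k + 1) F) := by
  have := finite_psp (F := F) k
  have h1 := card_eq (F := F) hk
  have h2 := card_eq (F := F) (show 1 ≤ k + 1 by omega)
  have hq : 1 < Fintype.card F := Fintype.one_lt_card
  set q := Fintype.card F with hqd
  rw [Finset.prod_range_succ, show (k + 1) ^ 2 = k ^ 2 + (2 * k + 1) by ring, pow_add] at h2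
  have h3 : Nat.gcd 2 (q - 1) * Nat.card (PSp (k + 1) F) =
      Nat.gcd 2 (q - 1) * (Nat.card (PSp k F) * (q ^ (2 * k + 1) * (q ^ (2 * (k + 1)) - 1))) := by
    rw [h2, ← mul_assoc (Nat.gcd 2 (q - 1)), h1]
    ring
  have hg : 0 < Nat.gcd 2 (q - 1) := Nat.gcd_pos_of_pos_left _ (by norm_num)
  have h4 := Nat.eq_of_mul_eq_mul_left hg h3
  rw [h4]
  have hpos : 0 < Nat.card (PSp k F) := Nat.card_pos
  have h5 : 2 ≤ q ^ (2 * k + 1) := by
    calc 2 ≤ q := hq
      _ = q ^ 1 := (pow_one q).symm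
      _ ≤ q ^ (2 * k + 1) := Nat.pow_le_pow_right (by omega) (by omega)
  have h6 : 2 ≤ q ^ (2 * (k + 1)) := by
    calc 2 ≤ q := hq
      _ = q ^ 1 := (pow_one q).symm
      _ ≤ q ^ (2 * (k + 1)) := Nat.pow_le_pow_right (by omega) (by omega)
  have h7 : 2 ≤ q ^ (2 * k + 1) * (q ^ (2 * (k + 1)) - 1) := by
    calc 2 = 2 * 1 := rfl
      _ ≤ _ := Nat.mul_le_mul h5 (by omega)
  nlinarith

theorem five_le_card {p : ℕ} [Fact p.Prime] (hp5 : 5 ≤ p) [CharP F p] : 5 ≤ Fintype.card F := by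
  have h1 : p ∣ Fintype.card F := (CharP.cast_eq_zero_iff F p _).1 (FiniteField.cast_card_eq_zero F)
  exact hp5.trans (Nat.le_of_dvd Fintype.card_pos h1)

theorem simple_psp (h5 : 5 ≤ Fintype.card F) {k : ℕ} (hk : 1 ≤ k) : IsSimpleGroup (PSp k F) := by
  rcases Nat.lt_or_ge k 2 with h | h
  · obtain rfl : k = 1 := by omega
    have h1 : IsSimpleGroup (Matrix.ProjectiveSpecialLinearGroup (Fin 2) F) :=
      Matrix.ProjectiveSpecialLinearGroup.rank_two_simple (by rw [Nat.card_eq_fintype_card]; omega)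
    exact (pspOne F).isSimpleGroup
  · exact S0270.result k h (fun _ => by omega)

theorem not_comm {p : ℕ} [Fact p.Prime] (hp5 : 5 ≤ p) [CharP F p] {k : ℕ} (hk : 1 ≤ k) :
    ¬ IsMulCommutative (PSp k F) := by
  intro hc
  have h5 := five_le_card (F := F) hp5
  have hs := simple_psp h5 hk
  have hp : p.Prime := Fact.out
  have hfin := finite_psp (F := F) k
  have hprime : (Nat.card (PSp k F)).Prime := by
    let _ : CommGroup (PSp k F) := { (inferInstance : Group (PSp k F)) with mul_comm := hc.is_comm.comm }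
    exact IsSimpleGroup.prime_card
  have h1 := card_eq (F := F) hk
  have hpq : p ∣ Fintype.card F := (CharP.cast_eq_zero_iff F p _).1 (FiniteField.cast_card_eq_zero F)
  set q := Fintype.card F with hq
  have hg2 : Nat.gcd 2 (q - 1) ∣ 2 := Nat.gcd_dvd_left _ _
  have hg : Nat.gcd 2 (q - 1) ≤ 2 := Nat.le_of_dvd (by norm_num) hg2
  have hg0 : 0 < Nat.gcd 2 (q - 1) := Nat.gcd_pos_of_pos_left _ (by norm_num)
  have h2 : p ∣ Nat.gcd 2 (q - 1) * Nat.card (PSp k F) := by
    rw [h1]
    exact Dvd.dvd.mul_right (dvd_pow hpq (by positivity)) _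
  have h3 : p = Nat.card (PSp k F) := by
    rcases (Nat.Prime.dvd_mul hp).1 h2 with h | h
    · have := Nat.le_of_dvd hg0 h
      omega
    · exact (Nat.prime_dvd_prime_iff_eq hp hprime).1 h
  have h4 : q ^ 2 - 1 ∣ Nat.gcd 2 (q - 1) * p := by
    rw [h3, h1]
    refine Dvd.dvd.mul_left ?_ _
    exact Finset.dvd_prod_of_mem (fun i => q ^ (2 * (i + 1)) - 1) (Finset.mem_range.2 hk)
  have h6 : 25 ≤ q ^ 2 := by nlinarith
  have hcop : Nat.Coprime (q ^ 2 - 1) p := by
    rw [Nat.coprime_comm, Nat.Prime.coprime_iff_not_dvd hp]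
    intro h
    have h7 : p ∣ q ^ 2 := dvd_pow hpq (by norm_num)
    have h8 := Nat.dvd_sub h7 h
    have h9 : q ^ 2 - (q ^ 2 - 1) = 1 := by omega
    rw [h9] at h8
    have := Nat.le_of_dvd (by norm_num) h8
    omega
  have h7 := Nat.le_of_dvd hg0 (hcop.dvd_of_dvd_mul_right h4)
  omega

/-- representatives of order `p` -/
theorem exists_rep {m p : ℕ} (hm : 2 ≤ m) [Fact p.Prime] (hp5 : 5 ≤ p) [CharP F p] {c : MulAut (PSp m F)}
    (hc : orderOf c = p) : ∃ n : semiSim m F, n ^ p = 1 ∧ Psi m F n = c := by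
  have hp : p.Prime := Fact.out
  have hcp : c ^ p = 1 := by rw [← hc, pow_orderOf_eq_one]
  have h5 := five_le_card (F := F) hp5
  obtain ⟨y, hy⟩ := Cfsg.Agent.H513.MeetPSp.mem_range hm (fun _ => by omega) c (hp.odd_of_ne_two (by omega)) hcp
  have h1 : Psi m F (y ^ p) = 1 := by rw [map_pow, hy, hcp]
  obtain ⟨a, ha⟩ := exists_scal_of_Psi_eq_one (by omega) _ h1
  have hpq : p ∣ Fintype.card F := (CharP.cast_eq_zero_iff F p _).1 (FiniteField.cast_card_eq_zero F)
  obtain ⟨s, hs⟩ := hpq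
  have hpow : ∀ (b : Fˣ) (j : ℕ), (scal m F b) ^ j = scal m F (b ^ j) := by
    intro b j
    induction j with
    | zero =>
      ext1 v
      rw [pow_zero, pow_zero, scal_apply, Units.val_one, one_smul]
      rfl
    | succ j ih =>
      rw [pow_succ, ih]
      ext1 v
      rw [Equiv.Perm.mul_apply, scal_apply, scal_apply, scal_apply, smul_smul, pow_succ, Units.val_mul]
  have hyq : (y ^ p) ^ (Fintype.card F - 1) = 1 := by
    apply Subtype.ext
    change (y ^ p).1 ^ (Fintype.card F - 1) = 1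
    rw [ha, hpow]
    have h2 : a ^ (Fintype.card F - 1) = 1 :=
      Units.ext (by rw [Units.val_pow_eq_pow_val, FiniteField.pow_card_sub_one_eq_one _ a.ne_zero, Units.val_one])
    rw [h2]
    ext1 v
    rw [scal_apply, Units.val_one, one_smul]
    rfl
  refine ⟨y ^ ((Fintype.card F - 1) * (Fintype.card F - 1)), ?_, ?_⟩
  · rw [← pow_mul, mul_comm _ p, pow_mul, pow_mul, hyq, one_pow]
  · rw [map_pow, hy]
    obtain ⟨t, ht⟩ : ∃ t, (Fintype.card F - 1) * (Fintype.card F - 1) = p * t + 1 := by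
      obtain ⟨r, hr⟩ : ∃ r, Fintype.card F = r + 2 := ⟨Fintype.card F - 2, by omega⟩
      refine ⟨s * r, ?_⟩
      rw [← mul_assoc, ← hs, hr, show r + 2 - 1 = r + 1 by omega]
      ring
    rw [ht, pow_add, pow_mul, hcp, one_pow, one_mul, pow_one]

omit [Fintype F] in
theorem orderOf_chi {k p : ℕ} (hk : 1 ≤ k) [Fact p.Prime] [CharP F p] (n : St k F) (hnp : n ^ p = 1)
    {x : VV (k + 1) F} (hx : x (Sum.inr 0) = 0) (hne : ∀ b : F, n.1.1 x ≠ x + b • e1 k F) :
    orderOf (Psi k F (res k F n)) = p := by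
  refine orderOf_eq_prime (by rw [← map_pow, ← map_pow, hnp, map_one, map_one]) fun h1 => ?_
  obtain ⟨a, ha⟩ := exists_scal_of_Psi_eq_one hk _ h1
  have hpw : ∀ (j : ℕ) (v : VV k F), ((res k F n).1 ^ j) v = (a : F) ^ j • v := by
    intro j
    induction j with
    | zero => intro v; rw [pow_zero, pow_zero, one_smul]; rfl
    | succ j ih =>
      intro v
      rw [pow_succ, Equiv.Perm.mul_apply, ha, scal_apply, ← ha, ih, smul_smul, pow_succ]
  have hap : (a : F) ^ p = 1 := by
    have h2 : (res k F n).1 ^ p = 1 := by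
      have h3 : (res k F n) ^ p = 1 := by rw [← map_pow, hnp, map_one]
      exact congrArg Subtype.val h3
    have h3 := hpw p (Pi.single (Sum.inl ⟨0, hk⟩) 1)
    rw [h2] at h3
    have h4 := congrFun h3 (Sum.inl ⟨0, hk⟩)
    simpa using h4.symm
  have ha1 : (a : F) = 1 := by
    refine frobenius_inj F p ?_
    rw [frobenius_def, frobenius_def, one_pow]
    exact hap
  have h2 : prj (n.1.1 x) = prj x := by
    rw [← resPerm_prj n hx, ← res_coe, ha, scal_apply, ha1, one_smul]
  apply hne ((n.1.1 x) (Sum.inl 0) - x (Sum.inl 0))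
  refine vec_ext ?_ ?_ ?_
  · rw [Pi.add_apply, Pi.smul_apply, e1_inl, smul_eq_mul, mul_one]
    ring
  · rw [Pi.add_apply, Pi.smul_apply, e1_inr, smul_zero, add_zero, perp_map n hx, hx]
  · rw [prj_add, prj_smul, prj_e1, smul_zero, add_zero, h2]

/-- **The step.** -/
theorem srow_succ {k p : ℕ} (hk : 1 ≤ k) [Fact p.Prime] (hp5 : 5 ≤ p) [CharP F p] (hrow : SRow p (PSp k F)) :
    SRow p (PSp (k + 1) F) := by
  have hp : p.Prime := Fact.out
  intro c d hc hd
  have key : ∀ c : MulAut (PSp (k + 1) F), orderOf c = p →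
      ∃ s ∈ (MulAut.conj : PSp (k + 1) F →* MulAut (PSp (k + 1) F)).range, ∃ n : St k F,
        Psi (k + 1) F n.1 = s * c * s⁻¹ ∧ orderOf (Psi k F (res k F n)) = p := by
    intro c hc
    obtain ⟨n, hnp, hn⟩ := exists_rep (by omega) hp5 hc
    obtain ⟨φ, l, hl0, hs⟩ := n.2
    have hnp1 : n.1 ^ p = 1 := congrArg Subtype.val hnp
    have hn1 : n.1 ≠ 1 := by
      intro h
      have h1 : n = 1 := Subtype.ext h
      rw [h1, map_one] at hn
      rw [← hn, orderOf_one] at hc
      exact hp.one_lt.ne hc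
    have hl : φ = 1 → l = 1 := by
      rintro rfl
      have h1 : ∀ (j : ℕ) (u v : VV (k + 1) F),
          sympForm (k + 1) F ((n.1 ^ j) u) ((n.1 ^ j) v) = l ^ j * sympForm (k + 1) F u v := by
        intro j
        induction j with
        | zero => intro u v; rw [pow_zero, pow_zero, one_mul]; rfl
        | succ j ih =>
          intro u v
          rw [pow_succ, Equiv.Perm.mul_apply, Equiv.Perm.mul_apply, ih, hs.2.2, pow_succ, mul_assoc]
          rfl
      have h2 := h1 p (Pi.single (Sum.inr 0) 1) (Pi.single (Sum.inl 0) 1)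
      rw [hnp1, Equiv.Perm.one_apply, Equiv.Perm.one_apply, sympForm_single_inr_left, Pi.single_eq_same, mul_one] at h2
      refine frobenius_inj F p ?_
      rw [frobenius_def, frobenius_def, one_pow]
      exact h2.symm
    obtain ⟨v, hv0, hv, x, hx, hxb⟩ := exists_fixed (p := p) (by omega) (by omega) hs hl hnp1 hn1
    obtain ⟨A, -, hA⟩ := exists_transvGroup_mulVec_eq hv0 (e1_ne (k := k) (F := F))
    have hA' : rho (k + 1) F A v = e1 k F := hA
    obtain ⟨r, hr⟩ : ∃ r : semiSim (k + 1) F, r = ⟨rho (k + 1) F A, rho_mem A⟩ := ⟨_, rfl⟩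
    have hrv : ∀ u, r.1 u = rho (k + 1) F A u := fun u => by rw [hr]
    have hrn : ∀ u, (r * n * r⁻¹).1 (r.1 u) = r.1 (n.1 u) := by
      intro u
      change r.1 (n.1 (r.1⁻¹ (r.1 u))) = _
      rw [perm_inv_apply_self]
    have hre : r.1 v = e1 k F := by rw [hrv, hA']
    have hSt : r * n * r⁻¹ ∈ St k F := by
      refine ⟨1, one_ne_zero, ?_⟩
      rw [one_smul, ← hre, hrn, hv]
    refine ⟨MulAut.conj (QuotientGroup.mk A : PSp (k + 1) F), ⟨_, rfl⟩, ⟨_, hSt⟩, ?_, ?_⟩
    · rw [map_mul, map_mul, map_inv, hn, hr, Psi_rho]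
    · refine orderOf_chi hk _ ?_ (x := r.1 x) ?_ fun b hb => ?_
      · apply Subtype.ext
        change (r * n * r⁻¹) ^ p = 1
        rw [conj_pow, hnp, mul_one, mul_inv_cancel]
      · refine (form_e1 _).symm.trans ?_
        rw [← hre, hrv, hrv, sympForm_rho, hx]
      · apply hxb b
        change (r * n * r⁻¹).1 (r.1 x) = _ at hb
        rw [hrn, ← hre] at hb
        apply r.1.injective
        rw [hb, hrv (x + b • v), (isSemi_rho A).1, (isSemi_rho A).2.1, ← hrv, ← hrv]
        rfl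
  obtain ⟨s, hs, n, hn, hno⟩ := key c hc
  obtain ⟨t, ht, z, hz, hzo⟩ := key d hd
  refine SPair.conj_left hs (SPair.conj_right ht ?_)
  rw [← hn, ← hz]
  refine spair_of_factor hp ((Psi (k + 1) F).comp (St k F).subtype) ((Psi k F).comp (res k F)) ?_ ?_
    (hrow _ _ hno hzo)
  · intro y hy
    obtain ⟨a, ha⟩ := exists_scal_of_Psi_eq_one (by omega) _ (show Psi (k + 1) F y.1 = 1 from hy)
    have h1 : (res k F y).1 = scal k F a := by
      ext1 w
      rw [res_coe, resPerm_apply, ha, scal_apply, prj_smul, prj_emb, scal_apply]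
    have h2 : res k F y = ⟨scal k F a, h1 ▸ (res k F y).2⟩ := Subtype.ext h1
    rw [MonoidHom.comp_apply, h2, Psi_scal]
  · rintro _ ⟨q, rfl⟩
    obtain ⟨A, rfl⟩ := QuotientGroup.mk_surjective q
    obtain ⟨B, hB, hB'⟩ := exists_ext A
    have hSt : (⟨rho (k + 1) F B, rho_mem B⟩ : semiSim (k + 1) F) ∈ St k F :=
      ⟨1, one_ne_zero, by rw [one_smul]; exact hB⟩
    refine ⟨⟨_, hSt⟩, ⟨(QuotientGroup.mk B : PSp (k + 1) F), ?_⟩, ?_⟩
    · exact (Psi_rho B (rho_mem B)).symm
    · have h1 : res k F ⟨_, hSt⟩ = ⟨rho k F A, rho_mem A⟩ := by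
        apply Subtype.ext
        ext1 w
        rw [res_coe, resPerm_apply]
        change prj (rho (k + 1) F B (emb w)) = rho k F A w
        rw [hB' _ (emb_inr w), prj_emb]
      rw [MonoidHom.comp_apply, h1, Psi_rho]

/-- **S2274-O2: the strong row of `PSp_2m(q)` in own characteristic `p ≥ 5`.** -/
theorem srow_psp {S : Type u} [Group S] [Finite S] {F : Type} [Field F] [Fintype F] {m p : ℕ} (hm : 2 ≤ m)
    [Fact p.Prime] (hp5 : 5 ≤ p) [CharP F p] (e : S ≃* PSp m F) (hlt : SBelow.{u} p (Nat.card S)) : SRow p S := by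
  obtain ⟨k, rfl⟩ : ∃ k, m = k + 1 := ⟨m - 1, by omega⟩
  have hk : 1 ≤ k := by omega
  refine Cfsg.Agent.H897.T5Sub.SRow.congr e.symm (srow_succ hk hp5 ?_)
  have hfin := finite_psp (F := F) k
  let e' : ULift.{u} (PSp k F) ≃* PSp k F := MulEquiv.ulift
  have hs : IsSimpleGroup (PSp k F) := simple_psp (five_le_card hp5) hk
  have hs' : IsSimpleGroup (ULift.{u} (PSp k F)) := e'.isSimpleGroup
  refine Cfsg.Agent.H897.T5Sub.SRow.congr e' (hlt (ULift.{u} (PSp k F)) hs' ?_ ?_)
  · intro hc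
    refine not_comm (F := F) hp5 hk ⟨⟨fun a b => ?_⟩⟩
    have h1 := hc.is_comm.comm (e'.symm a) (e'.symm b)
    have h2 := congrArg e' h1
    simpa using h2
  · rw [Nat.card_congr e'.toEquiv, Nat.card_congr e.toEquiv]
    exact card_lt hk

end row

end Cfsg.Agent.H3.S5.PSpOwn
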